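import Cfsg.Agent.H306.E6N.Num

/-!
# More numerical consequences for `²E₆(q)` (helper306, S3481)
-/

set_option autoImplicit false

namespace Cfsg.Agent.H306.E6N

/-- a prime divisor `r ≥ 5` of `q² - q + 1` -/
theorem Ok.of_phi6 {r q : ℕ} (hr : r.Prime) (h5 : 5 ≤ r) (hq : 1 ≤ q) (hd : r ∣ q ^ 2 - q + 1) : Ok r q 6 := by
  have hq2 : q ≤ q ^ 2 := Nat.le_self_pow (by norm_num) q
  have := Fact.mk hr
  have e1 : ((q : ℕ) : ZMod r) ^ 2 - q + 1 = 0 := by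
    have h1 := (ZMod.natCast_eq_zero_iff (q ^ 2 - q + 1) r).2 hd
    rwa [Nat.cast_add, Nat.cast_sub hq2, Nat.cast_pow, Nat.cast_one] at h1
  have e3 : ((q : ℕ) : ZMod r) ^ 3 = -1 := by linear_combination (q + 1 : ZMod r) * e1
  have hz : ∀ k : ℕ, 0 < k → k < 5 → ((k : ℕ) : ZMod r) ≠ 0 := by
    intro k hk hk5 h
    rw [ZMod.natCast_eq_zero_iff] at h
    have := Nat.le_of_dvd hk h
    omega
  have h2 : (2 : ZMod r) ≠ 0 := by have := hz 2 (by norm_num) (by norm_num); rwa [Nat.cast_ofNat] at this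
  have h3 : (3 : ZMod r) ≠ 0 := by have := hz 3 (by norm_num) (by norm_num); rwa [Nat.cast_ofNat] at this
  refine ⟨hr, hq, orderOf_eq_of_pow_and_pow_div_prime (by norm_num) ?_ ?_⟩
  · linear_combination ((q : ZMod r) ^ 3 - 1) * e3
  · intro p hp hp6
    have hp7 : p = 2 ∨ p = 3 := by
      have h6 : p ∣ 2 * 3 := hp6
      rcases hp.dvd_mul.1 h6 with h7 | h7
      · exact Or.inl ((Nat.prime_dvd_prime_iff_eq hp Nat.prime_two).1 h7)
      · exact Or.inr ((Nat.prime_dvd_prime_iff_eq hp Nat.prime_three).1 h7)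
    rcases hp7 with rfl | rfl
    · intro h
      have h' : ((q : ℕ) : ZMod r) ^ 3 = 1 := h
      exact h2 (by linear_combination e3 - h')
    · intro h
      have h' : ((q : ℕ) : ZMod r) ^ 2 = 1 := h
      apply h3
      have h4 : ((q : ℕ) : ZMod r) = 2 := by linear_combination h' - e1
      have h5 : ((q : ℕ) : ZMod r) = -1 := by
        linear_combination e3 - ((q : ℕ) : ZMod r) * h'
      linear_combination h4.symm.trans h5

namespace NT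

variable {p q n b m : ℕ} (H : NT p q n b m) (hp : p.Prime) (hpq : p ∣ q) (hq : 1 ≤ q)

include H hp hpq hq

theorem c6 (hpn : ¬ p ∣ n) {r : ℕ} (hr : r.Prime) (h5 : 5 ≤ r) (hd : r ∣ q ^ 2 - q + 1) (hrn : r ∣ n) :
    n ∣ q ^ 6 - 1 ∨ n ∣ (q ^ 2 - q + 1) * (q ^ 4 - q ^ 2 + 1) := by
  have h := Ok.of_phi6 hr h5 hq hd
  have hm := dvd_m H.eq hp hpq hr (h.not_dvd (by norm_num)) hrn
  have hb : b = 0 := by
    by_contra hb
    apply hpn
    rw [H.eq]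
    exact (dvd_pow_self p hb).mul_right m
  have e : n = m := by rw [H.eq, hb, pow_zero, one_mul]
  rw [e]
  rcases H.s0 with h1 | h1 | h1 | h1 | h1 | h1
  · exact absurd (hm.trans h1) (h.mul (h.add_one (by norm_num)) (h.sub_one (by norm_num)))
  · exact absurd (hm.trans h1) (h.mul (h.add_one (by norm_num)) (h.sub_one' (by norm_num)))
  · exact absurd (hm.trans h1) (h.mul (h.sub_one (by norm_num)) (h.phi3 (by norm_num)))
  · exact Or.inl h1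
  · right
    rwa [mul_comm (q ^ 4 - q ^ 2 + 1)] at h1
  · exfalso
    have h2 := hm.trans h1
    have hq2 : q ≤ q ^ 2 := Nat.le_self_pow (by norm_num) q
    have hq6 : q ^ 3 ≤ q ^ 6 := Nat.pow_le_pow_right hq (by norm_num)
    have := Fact.mk hr
    have e1 : ((q : ℕ) : ZMod r) ^ 2 - q + 1 = 0 := by
      have h1 := (ZMod.natCast_eq_zero_iff (q ^ 2 - q + 1) r).2 hd
      rwa [Nat.cast_add, Nat.cast_sub hq2, Nat.cast_pow, Nat.cast_one] at h1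
    have e2 : ((q : ℕ) : ZMod r) ^ 6 - q ^ 3 + 1 = 0 := by
      have h1 := (ZMod.natCast_eq_zero_iff (q ^ 6 - q ^ 3 + 1) r).2 h2
      rwa [Nat.cast_add, Nat.cast_sub hq6, Nat.cast_pow, Nat.cast_pow, Nat.cast_one] at h1
    have e3 : ((q : ℕ) : ZMod r) ^ 3 = -1 := by linear_combination (q + 1 : ZMod r) * e1
    have e4 : ((3 : ℕ) : ZMod r) = 0 := by
      rw [Nat.cast_ofNat]
      linear_combination e2 - ((q : ZMod r) ^ 3 - 2) * e3
    rw [ZMod.natCast_eq_zero_iff] at e4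
    have := Nat.le_of_dvd (by norm_num) e4
    omega

theorem c2 (h2 : q = 2) {t : ℕ} (ht : t.Prime) (h5 : 5 ≤ t) (h7 : t ≠ 7) : n ≠ 9 * t := by
  rintro hn
  subst h2
  have hp2 : p = 2 := (Nat.prime_dvd_prime_iff_eq hp Nat.prime_two).1 hpq
  subst hp2
  have htm : t % 2 = 1 := by
    rcases ht.eq_two_or_odd with h | h
    · omega
    · exact h
  have hb : b = 0 := by
    by_contra hb
    have h1 : 2 ∣ n := by
      rw [H.eq]
      exact (dvd_pow_self 2 hb).mul_right m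
    rw [hn] at h1
    omega
  have e : n = m := by rw [H.eq, hb, pow_zero, one_mul]
  rw [hn] at e
  have h0 := H.s0
  rw [← e] at h0
  norm_num at h0
  rcases h0 with h1 | h1 | h1 | h1 | h1 | h1
  · exact absurd ((dvd_mul_right 9 t).trans h1) (by norm_num)
  · exact absurd ((dvd_mul_right 9 t).trans h1) (by norm_num)
  · exact absurd ((dvd_mul_right 9 t).trans h1) (by norm_num)
  · have h2 : 9 * t ∣ 9 * 7 := by norm_num; exact h1
    have h3 := Nat.dvd_of_mul_dvd_mul_left (by norm_num) h2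
    exact h7 ((Nat.prime_dvd_prime_iff_eq ht (by norm_num)).1 h3)
  · exact absurd ((dvd_mul_right 9 t).trans h1) (by norm_num)
  · exact absurd ((dvd_mul_right 9 t).trans h1) (by norm_num)

end NT

/-- `3^(a+2) ∣ u * v`, `3 ∤ v` -/
theorem three_left {a u v : ℕ} (hv : ¬ 3 ∣ v) (h : 3 ^ a ∣ u * v) : 3 ^ a ∣ u :=
  ((Nat.prime_three.coprime_iff_not_dvd.2 hv).pow_left a).dvd_of_dvd_mul_right h

end Cfsg.Agent.H306.E6N

namespace Cfsg.Agent.H306.E6N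

namespace NT

variable {p q n b m : ℕ} (H : NT p q n b m) (hp : p.Prime) (hpq : p ∣ q) (hq : 1 ≤ q)

include H hp hpq hq

omit hp in
theorem c3 (h3 : 3 ∣ q + 1) {a : ℕ} (ha : ¬ 3 ^ (a + 1) ∣ q + 1) : ¬ 3 ^ (a + 2) ∣ n := by
  intro hn
  have hq3 : ¬ 3 ∣ q := by omega
  have hp3 : ¬ 3 ∣ p := fun h => hq3 (h.trans hpq)
  have hm : 3 ^ (a + 2) ∣ m := by
    rw [H.eq, mul_comm] at hn
    refine three_left (fun h => ?_) hn
    exact hp3 (Nat.prime_three.dvd_of_dvd_pow h)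
  obtain ⟨c, hc⟩ := h3
  have hc1 : 1 ≤ c := by omega
  have h9 : 3 ^ 2 ∣ 3 ^ (a + 2) := Nat.pow_dvd_pow 3 (by omega)
  -- `q = 3c - 1`
  obtain ⟨d, rfl⟩ : ∃ d, c = d + 1 := ⟨c - 1, by omega⟩
  have eq : q = 3 * d + 2 := by omega
  have n4 : ¬ 3 ∣ q ^ 4 + 1 := by
    rw [eq]; intro h
    have e : (3 * d + 2) ^ 4 + 1 = 3 * (27 * d ^ 4 + 72 * d ^ 3 + 72 * d ^ 2 + 32 * d + 5) + 2 := by ring
    omega
  have nm : ¬ 3 ∣ q - 1 := by omega
  have n3 : ¬ 3 ∣ q ^ 3 - 1 := by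
    have e : q ^ 3 = 3 * (9 * d ^ 3 + 18 * d ^ 2 + 12 * d + 2) + 2 := by rw [eq]; ring
    omega
  have nphi3 : ¬ 3 ∣ q ^ 2 + q + 1 := by
    have e : q ^ 2 = 3 * (3 * d ^ 2 + 4 * d + 1) + 1 := by rw [eq]; ring
    omega
  have nphi4 : ¬ 3 ∣ q ^ 2 + 1 := by
    have e : q ^ 2 = 3 * (3 * d ^ 2 + 4 * d + 1) + 1 := by rw [eq]; ring
    omega
  have n12 : ¬ 3 ∣ q ^ 4 - q ^ 2 + 1 := by
    have e2 : q ^ 2 = 3 * (3 * d ^ 2 + 4 * d + 1) + 1 := by rw [eq]; ring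
    have e4 : q ^ 4 = 3 * (27 * d ^ 4 + 72 * d ^ 3 + 72 * d ^ 2 + 32 * d + 5) + 1 := by rw [eq]; ring
    have hle : q ^ 2 ≤ q ^ 4 := Nat.pow_le_pow_right hq (by norm_num)
    omega
  have n10 : ¬ 3 ∣ q ^ 4 - q ^ 3 + q ^ 2 - q + 1 := by
    have e2 : q ^ 2 = 3 * (3 * d ^ 2 + 4 * d + 1) + 1 := by rw [eq]; ring
    have e3 : q ^ 3 = 3 * (9 * d ^ 3 + 18 * d ^ 2 + 12 * d + 2) + 2 := by rw [eq]; ring
    have e4 : q ^ 4 = 3 * (27 * d ^ 4 + 72 * d ^ 3 + 72 * d ^ 2 + 32 * d + 5) + 1 := by rw [eq]; ring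
    have hle : q ^ 3 ≤ q ^ 4 := Nat.pow_le_pow_right hq (by norm_num)
    have hle2 : q ≤ q ^ 2 := Nat.le_self_pow (by norm_num) q
    omega
  -- `q² - q + 1 = 3 w`, `3 ∤ w`
  have e6 : q ^ 2 - q + 1 = 3 * (3 * (d ^ 2 + d) + 1) := by
    have e2 : q ^ 2 = 9 * d ^ 2 + 12 * d + 4 := by rw [eq]; ring
    omega
  -- the main step
  have key : ∀ u : ℕ, ¬ 3 ∣ u → ¬ 3 ^ (a + 2) ∣ (q + 1) * u := fun u hu h =>
    ha ((Nat.pow_dvd_pow 3 (by omega)).trans (three_left hu h))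
  have key3 : ∀ u : ℕ, ¬ 3 ∣ u → ¬ 3 ^ (a + 2) ∣ 3 * ((q + 1) * u) := fun u hu h => by
    rw [show a + 2 = (a + 1) + 1 from rfl, pow_succ', ] at h
    exact ha (three_left hu (Nat.dvd_of_mul_dvd_mul_left (by norm_num) h))
  have sq1 : q ^ 2 - 1 = (q + 1) * (q - 1) := by
    have := Nat.sq_sub_sq q 1
    rwa [one_pow] at this
  rcases H.s0 with h1 | h1 | h1 | h1 | h1 | h1
  · refine key ((q - 1) * (q ^ 4 + 1)) (fun h => (Nat.prime_three.dvd_mul.1 h).elim nm n4) ?_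
    have h2 := hm.trans h1
    rwa [sq1, mul_comm, mul_assoc] at h2
  · refine key ((q ^ 4 - q ^ 3 + q ^ 2 - q + 1) * (q - 1)) (fun h => (Nat.prime_three.dvd_mul.1 h).elim n10 nm) ?_
    have h2 := hm.trans h1
    have e : q ^ 5 + 1 = (q + 1) * (q ^ 4 - q ^ 3 + q ^ 2 - q + 1) := by
      have hle : q ^ 3 ≤ q ^ 4 := Nat.pow_le_pow_right hq (by norm_num)
      have hle2 : q ≤ q ^ 2 := Nat.le_self_pow (by norm_num) q
      zify [hle, hle2, show q ≤ q ^ 4 - q ^ 3 + q ^ 2 by omega]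
      ring
    rwa [e, mul_assoc] at h2
  · refine key ((q - 1) * (q ^ 2 + 1) * (q ^ 2 + q + 1)) (fun h => (Nat.prime_three.dvd_mul.1 h).elim
      (fun h => (Nat.prime_three.dvd_mul.1 h).elim nm nphi4) nphi3) ?_
    have h2 := hm.trans h1
    have e : q ^ 4 - 1 = (q + 1) * ((q - 1) * (q ^ 2 + 1)) := by
      have h4 := Nat.sq_sub_sq (q ^ 2) 1
      rw [one_pow, ← pow_mul, sq1] at h4
      rw [h4]
      ring
    rwa [e, mul_assoc] at h2
  · refine key3 ((3 * (d ^ 2 + d) + 1) * (q ^ 3 - 1)) (fun h => (Nat.prime_three.dvd_mul.1 h).elim (by omega) n3) ?_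
    have h2 := hm.trans h1
    have e : q ^ 6 - 1 = (q + 1) * (q ^ 2 - q + 1) * (q ^ 3 - 1) := by
      have hle2 : q ≤ q ^ 2 := Nat.le_self_pow (by norm_num) q
      have h6 : 1 ≤ q ^ 6 := Nat.one_le_pow _ _ hq
      have h3 : 1 ≤ q ^ 3 := Nat.one_le_pow _ _ hq
      zify [hle2, h6, h3]
      ring
    rw [e, e6] at h2
    have e2 : (q + 1) * (3 * (3 * (d ^ 2 + d) + 1)) * (q ^ 3 - 1) =
      3 * ((q + 1) * ((3 * (d ^ 2 + d) + 1) * (q ^ 3 - 1))) := by ring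
    rwa [e2] at h2
  · have h2 := (h9.trans hm).trans h1
    rw [e6] at h2
    have h4 : 3 ∣ (3 * (d ^ 2 + d) + 1) := by
      have h5 : 3 * 3 ∣ 3 * ((3 * (d ^ 2 + d) + 1) * (q ^ 4 - q ^ 2 + 1)) := by
        have e2 : (q ^ 4 - q ^ 2 + 1) * (3 * (3 * (d ^ 2 + d) + 1)) =
          3 * ((3 * (d ^ 2 + d) + 1) * (q ^ 4 - q ^ 2 + 1)) := by ring
        rwa [e2] at h2
      have h6 := Nat.dvd_of_mul_dvd_mul_left (by norm_num) h5
      exact (Nat.prime_three.dvd_mul.1 h6).resolve_right n12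
    omega
  · have h2 := (h9.trans hm).trans h1
    have e3 : q ^ 3 = 9 * (3 * d ^ 3 + 6 * d ^ 2 + 4 * d) + 8 := by rw [eq]; ring
    have e7 : q ^ 6 = 9 * (9 * (3 * d ^ 3 + 6 * d ^ 2 + 4 * d) ^ 2 + 16 * (3 * d ^ 3 + 6 * d ^ 2 + 4 * d) + 7) + 1 := by
      rw [show q ^ 6 = (q ^ 3) ^ 2 by ring, e3]; ring
    have hq6 : q ^ 3 ≤ q ^ 6 := Nat.pow_le_pow_right hq (by norm_num)
    generalize (9 * (3 * d ^ 3 + 6 * d ^ 2 + 4 * d) ^ 2 + 16 * (3 * d ^ 3 + 6 * d ^ 2 + 4 * d) + 7) = A at e7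
    generalize (3 * d ^ 3 + 6 * d ^ 2 + 4 * d) = B at e3
    omega

end NT

end Cfsg.Agent.H306.E6N
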