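import Cfsg.Agent.H378.Eng.Fin2
import Cfsg.Agent.H129.TwE6Fr
import Cfsg.Agent.H130.WeylTab

/-!
# The orders of the elements of `²E₆(q)` by packed certificates (helper306, for helper378)

`order_tw2` : `Tabs2` with `ε = -1` bounds the orders of the elements of `twistedE6 K q`.
-/

set_option autoImplicit false
set_option linter.unusedSectionVars false

namespace Cfsg.Agent.H306.E6N

open CoxeterSystem Cfsg Cfsg.Lie Cfsg.Lie.ChevalleyDatum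
open Cfsg.Agent.ChevalleyStructure Cfsg.Agent.ChevalleyStructure.Elts Cfsg.Agent.ChevalleyStructure.CoxeterGeom
  Cfsg.Agent.ChevalleyStructure.CoxeterGeomTypes Cfsg.Agent.ChevalleyStructure.NPerm
open Cfsg.Agent.Tits.Roots Cfsg.Agent.Tits.Core Cfsg.Agent.Nodes Cfsg.Agent.Nodes.Reps Cfsg.Agent.Nodes.BNOf
  Cfsg.Agent.Nodes.RGDChev Cfsg.Agent.Nodes.Bruhat
open Cfsg.Agent.KFacts.RgdField Cfsg.Agent.KFacts.RgdChevCoord
open Cfsg.Agent.BpExc Cfsg.Agent.BpExc.TorCent Cfsg.Agent.BpExc.TorChev Cfsg.Agent.BpExc.Tow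
  Cfsg.Agent.BpExc.TowChev Cfsg.Agent.BpExc.Fr Cfsg.Agent.BpExc.NInst Cfsg.Agent.BpExc.LangFr
open Cfsg.Agent.H378 Cfsg.Agent.H378.Eng Cfsg.Agent.H130.WeylCk Cfsg.Agent.H130.WeylTab
open Cfsg.Agent.H129.TwE6Fr (tau isFrob_tau fr_tau embT embT_injective tau_embT flip6 flip6_apply)

universe u v

/-- `-w₀` on the simple roots -/
theorem neg_E6 : ∀ i : Fin 6, acn alE6 ([0, 3, 5, 1, 2, 4] : List (Fin 6)) 6 (bas 6 i) =
    ([[0, 0, 0, 0, 0, -1], [0, -1, 0, 0, 0, 0], [0, 0, 0, 0, -1, 0], [0, 0, 0, -1, 0, 0], [0, 0, -1, 0, 0, 0],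
      [-1, 0, 0, 0, 0, 0]] : List (List ℤ)).getD i [] := by
  decide +kernel

/-- the graph automorphism is `-w₀` -/
theorem flip_eq {W : Type v} [Group W] (cs : CoxeterSystem CoxeterMatrix.E₆ W) :
    ∃ w₀ : W, ∀ x, flip6 x = (-1 : ℤ) • rep cs RGDTwE6.hp.isCartan w₀ x := by
  obtain ⟨w0, hw0⟩ : ∃ w0, w0 = cs.wordProd ([0, 3, 5, 1, 2, 4] : List (Fin 6)) ^ 6 := ⟨_, rfl⟩
  have h2 : rep cs RGDTwE6.hp.isCartan w0 = -(flip6.toAddMonoidHom.toIntLinearMap) := by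
    apply LinearMap.pi_ext'
    intro i
    apply LinearMap.ext_ring
    show rep cs RGDTwE6.hp.isCartan w0 (Pi.single i 1) = -flip6 (Pi.single i 1)
    rw [hw0]
    have h4 := toFn_acn cs RGDTwE6.hp.isCartan lists_E6 ([0, 3, 5, 1, 2, 4] : List (Fin 6)) 6 (bas 6 i)
      (length_bas i.1)
    rw [toFn_bas] at h4
    rw [map_pow, ← h4, neg_E6]
    have h3 : ∀ i : Fin 6, toFn 6 (([[0, 0, 0, 0, 0, -1], [0, -1, 0, 0, 0, 0], [0, 0, 0, 0, -1, 0],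
        [0, 0, 0, -1, 0, 0], [0, 0, -1, 0, 0, 0], [-1, 0, 0, 0, 0, 0]] : List (List ℤ)).getD i []) =
        -![(Pi.single i 1 : Fin 6 → ℤ) 5, (Pi.single i 1 : Fin 6 → ℤ) 1, (Pi.single i 1 : Fin 6 → ℤ) 4,
          (Pi.single i 1 : Fin 6 → ℤ) 3, (Pi.single i 1 : Fin 6 → ℤ) 2, (Pi.single i 1 : Fin 6 → ℤ) 0] := by
      decide +kernel
    exact h3 i
  refine ⟨w0, fun x => ?_⟩
  rw [h2]
  show flip6 x = (-1 : ℤ) • -flip6 x
  rw [neg_smul, one_smul, neg_neg]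

/-- **The order of an element of `²E₆(q)`.** -/
theorem order_tw2 {T : Dat} {C : Ch2} {E : Cr2} {ct : List (List Ent)} (H : Tabs2 chevE6 6 T C E (-1) ct)
    {K : Type u} [Field K] [Fintype K] {p q : ℕ} [Fact p.Prime] [CharP K p] (hq : IsPrimePow q)
    (hK : Fintype.card K = q ^ 2) (a : ↥(twistedE6 K q)) :
    ∃ b m : ℕ, orderOf a = p ^ b * m ∧ ¬ p ∣ m ∧ ∃ i < T.reps.length,
      (Has ct 0 i → (m : ℤ) ∣ fqG (6 + 1) (E.pol ct 0 i) (q : ℤ)) ∧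
      ∀ n : ℕ, b ≠ 0 → n + 1 ≤ p ^ (b - 1) →
        ∃ st ∈ C.lev.getD n [], Has ct st.2 i → (m : ℤ) ∣ fqG (6 + 1) (E.pol ct st.2 i) (q : ℤ) := by
  have hpp : p.Prime := Fact.out
  obtain ⟨k, _, _, f, r, _, hC, e', hk, hka, -, hqe'⟩ := TorFin.exists_closure K
  have hrp : r = p := by
    have h1 : CharP k p := charP_of_injective_ringHom f.injective p
    exact CharP.eq k hC h1
  subst hrp
  -- `q` is a power of `p`
  obtain ⟨e, he⟩ : ∃ e : ℕ, q = r ^ e := by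
    have h1 : q ∣ r ^ e' := by
      rw [← hqe', Nat.card_eq_fintype_card, hK]
      exact dvd_pow_self q (by norm_num)
    obtain ⟨e, -, he⟩ := (Nat.dvd_prime_pow hpp).1 h1
    exact ⟨e, he⟩
  let cs : CoxeterSystem CoxeterMatrix.E₆ CoxeterMatrix.E₆.Group := CoxeterMatrix.E₆.toCoxeterSystem
  have hW : Finite CoxeterMatrix.E₆.Group := Cfsg.Agent.Nodes.RGDChev.finite_W RGDTwE6.hp cs
  obtain ⟨w₀, hw₀⟩ := flip_eq cs
  have ho : orderOf (embT (k := k) f hq hK a) = orderOf a := orderOf_injective _ (embT_injective f hq hK) a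
  have hfa : Finite ↥(twistedE6 K q) := Subtype.finite
  obtain ⟨b, m, h1, h2, h3⟩ := exists_order2 RGDTwE6.hp cs H (a := embT (k := k) f hq hK a) hka hk
    (isFrob_tau (k := k) (p := r) (e := e)) (fr_tau (p := r) (e := e) cs) (w₀ := w₀) hw₀ (tau_embT f he hq hK a)
    (by rw [ho]; exact (orderOf_pos a).ne')
  rw [ho] at h1
  rw [← he] at h3
  exact ⟨b, m, h1, h2, h3⟩

end Cfsg.Agent.H306.E6N
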